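import Mathlib

/-!
# Rigidity of morphisms to unramified (separated) schemes; étale radicial morphisms
-/

set_option autoImplicit false
set_option backward.isDefEq.respectTransparency.types false
universe u
open CategoryTheory CategoryTheory.Limits AlgebraicGeometry

namespace Groth.Agent.Rigidity

variable {X S Y T : Scheme.{u}} (π : X ⟶ S) (f g : Y ⟶ X)

/-- Equalizer of two `S`-morphisms into an unramified `S`-scheme is all of `Y` as soon as its
(open) range is everything. -/
lemma eq_of_range_eq_univ (hfg : f ≫ π = g ≫ π)
    [FormallyUnramified π] [LocallyOfFiniteType π]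
    (h : Set.range (pullback.fst (pullback.lift f g hfg) (pullback.diagonal π)) = Set.univ) :
    f = g := by
  let i := pullback.fst (pullback.lift f g hfg) (pullback.diagonal π)
  have : IsOpenImmersion i := MorphismProperty.pullback_fst _ _ inferInstance
  have : Surjective i := ⟨Set.range_eq_univ.mp h⟩
  have : IsIso i := (isIso_iff_isOpenImmersion_and_surjective i).mpr ⟨inferInstance, inferInstance⟩
  have h2 : i ≫ pullback.lift f g hfg =
      pullback.snd _ _ ≫ pullback.diagonal π := pullback.condition
  rw [← cancel_epi i]
  have hf := congrArg (· ≫ pullback.fst π π) h2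
  have hg := congrArg (· ≫ pullback.snd π π) h2
  simp only [Category.assoc, pullback.lift_fst, pullback.diagonal_fst, Category.comp_id] at hf
  simp only [Category.assoc, pullback.lift_snd, pullback.diagonal_snd, Category.comp_id] at hg
  rw [hf, hg]

lemma comp_lift_eq (hfg : f ≫ π = g ≫ π) (e : T ⟶ Y) (he : e ≫ f = e ≫ g) :
    e ≫ pullback.lift f g hfg = (e ≫ f) ≫ pullback.diagonal π := by
  apply pullback.hom_ext
  · erw [Category.assoc, pullback.lift_fst, Category.assoc, pullback.diagonal_fst,
      Category.comp_id]
  · erw [Category.assoc, pullback.lift_snd, Category.assoc, pullback.diagonal_snd,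
      Category.comp_id]
    exact he.symm

/-- Two morphisms into an unramified scheme agreeing after a surjective morphism are equal. -/
lemma eq_of_surjective_comp (hfg : f ≫ π = g ≫ π)
    [FormallyUnramified π] [LocallyOfFiniteType π]
    (e : T ⟶ Y) [Surjective e] (he : e ≫ f = e ≫ g) : f = g := by
  apply eq_of_range_eq_univ π f g hfg
  let l : T ⟶ pullback (pullback.lift f g hfg) (pullback.diagonal π) :=
    pullback.lift e (e ≫ f) (comp_lift_eq π f g hfg e he)
  refine Set.eq_univ_of_forall fun y ↦ ?_
  obtain ⟨t, rfl⟩ := e.surjective y
  refine ⟨l t, ?_⟩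
  rw [← Scheme.Hom.comp_apply, pullback.lift_fst]

/-- Two morphisms from a connected scheme into an unramified separated scheme agreeing at some
nonempty scheme-valued point are equal. -/
lemma eq_of_connected (hfg : f ≫ π = g ≫ π)
    [FormallyUnramified π] [LocallyOfFiniteType π] [IsSeparated π] [ConnectedSpace Y]
    (e : T ⟶ Y) [Nonempty T] (he : e ≫ f = e ≫ g) : f = g := by
  apply eq_of_range_eq_univ π f g hfg
  let l : T ⟶ pullback (pullback.lift f g hfg) (pullback.diagonal π) :=
    pullback.lift e (e ≫ f) (comp_lift_eq π f g hfg e he)
  let i := pullback.fst (pullback.lift f g hfg) (pullback.diagonal π)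
  have : IsOpenImmersion i := MorphismProperty.pullback_fst _ _ inferInstance
  have : IsClosedImmersion i := MorphismProperty.pullback_fst _ _ inferInstance
  obtain ⟨t⟩ := ‹Nonempty T›
  exact IsClopen.eq_univ ⟨i.isClosedEmbedding.isClosed_range, i.isOpenEmbedding.isOpen_range⟩
    ⟨i (l t), ⟨l t, rfl⟩⟩

/-- An étale and universally injective morphism is an open immersion. -/
lemma isOpenImmersion_of_etale_of_universallyInjective {X Y : Scheme.{u}} (f : X ⟶ Y) [Etale f]
    [UniversallyInjective f] : IsOpenImmersion f := by
  have : Surjective (pullback.diagonal f) := by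
    have h : UniversallyInjective f := inferInstance
    rw [universallyInjective_eq_diagonal] at h
    exact h
  have : IsIso (pullback.diagonal f) :=
    (isIso_iff_isOpenImmersion_and_surjective _).mpr ⟨inferInstance, inferInstance⟩
  have : Mono f := (pullback.isIso_diagonal_iff f).mp inferInstance
  exact IsOpenImmersion.of_flat_of_mono f

end Groth.Agent.Rigidity
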