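import Groth.Agent.Rigidity.Basic

/-!
# Finite unramified morphisms with a single rational point in a fibre
-/

set_option autoImplicit false
set_option backward.isDefEq.respectTransparency.types false
universe u
open CategoryTheory CategoryTheory.Limits AlgebraicGeometry

namespace Groth.Agent.Rigidity

variable {X S : Scheme.{u}} (f : X ⟶ S)

/-- A point of the self product over a point with trivial fibre lies on the diagonal. -/
lemma mem_range_diagonal (s : S) (x : X) (hx : f.base ⁻¹' {s} = {x})
    (hκ : Function.Surjective (f.residueFieldMap x))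
    (z : (pullback f f : Scheme.{u})) (hz : (pullback.fst f f ≫ f) z = s) :
    z ∈ Set.range (pullback.diagonal f) := by
  have h1 : pullback.fst f f z = x := by
    have : f.base (pullback.fst f f z) = s := hz
    exact hx.le this
  have h2 : pullback.snd f f z = x := by
    have : f.base (pullback.snd f f z) = s := by rwa [pullback.condition] at hz
    exact hx.le this
  let a := (pullback f f).fromSpecResidueField z ≫ pullback.fst f f
  let b := (pullback f f).fromSpecResidueField z ≫ pullback.snd f f
  have hab : a = b := by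
    have key : ∀ (c : Spec ((pullback f f).residueField z) ⟶ X),
        (∀ t, c t = x) → ∃ φ : X.residueField x ⟶ (pullback f f).residueField z,
          c = Spec.map φ ≫ X.fromSpecResidueField x := fun c hc ↦ by
      obtain ⟨⟨y, φ⟩, rfl⟩ :=
        (Scheme.SpecToEquivOfField ((pullback f f).residueField z) X).symm.surjective c
      obtain rfl : y = x := by
        have := hc (IsLocalRing.closedPoint _)
        simpa [Scheme.SpecToEquivOfField] using this
      exact ⟨φ, rfl⟩
    obtain ⟨φ, hφ⟩ := key a fun t ↦ by simp [a, h1]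
    obtain ⟨ψ, hψ⟩ := key b fun t ↦ by simp [b, h2]
    have hf : a ≫ f = b ≫ f := by simp [a, b, pullback.condition]
    rw [hφ, hψ, Category.assoc, Category.assoc, ← Scheme.Hom.SpecMap_residueFieldMap_fromSpecResidueField,
      ← Spec.map_comp_assoc, ← Spec.map_comp_assoc] at hf
    have hinj : f.residueFieldMap x ≫ φ = f.residueFieldMap x ≫ ψ :=
      Spec.map_injective ((cancel_mono (S.fromSpecResidueField (f.base x))).mp hf)
    have : φ = ψ := by
      ext t
      obtain ⟨t, rfl⟩ := hκ t
      exact congr($hinj t)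
    rw [hφ, hψ, this]
  have hd : (pullback f f).fromSpecResidueField z = a ≫ pullback.diagonal f := by
    apply pullback.hom_ext
    · exact ((Category.assoc a _ _).trans
        ((congrArg (a ≫ ·) (pullback.diagonal_fst f)).trans (Category.comp_id a))).symm
    · exact hab.symm.trans ((Category.assoc a _ _).trans
        ((congrArg (a ≫ ·) (pullback.diagonal_snd f)).trans (Category.comp_id a))).symm
  refine ⟨a (IsLocalRing.closedPoint _), ?_⟩
  change (a ≫ pullback.diagonal f) (IsLocalRing.closedPoint _) = z
  rw [← hd]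
  simp

/-- Near a point with trivial fibre a finite unramified morphism is a monomorphism, hence a closed
immersion over every smaller open. -/
lemma exists_isClosedImmersion [IsFinite f] [FormallyUnramified f] (s : S) (x : X)
    (hx : f.base ⁻¹' {s} = {x}) (hκ : Function.Surjective (f.residueFieldMap x)) :
    ∃ U : S.Opens, s ∈ U ∧ ∀ V ≤ U, IsClosedImmersion (f ∣_ V) := by
  have hopen : IsOpenImmersion (pullback.diagonal f) := inferInstance
  have hfin : IsFinite (pullback.fst f f ≫ f) := inferInstance
  let D : Set (pullback f f : Scheme.{u}) := (Set.range (pullback.diagonal f))ᶜ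
  have hD : IsClosed D := (pullback.diagonal f).isOpenEmbedding.isOpen_range.isClosed_compl
  let U : S.Opens := ⟨((pullback.fst f f ≫ f) '' D)ᶜ,
    ((pullback.fst f f ≫ f).isClosedMap _ hD).isOpen_compl⟩
  refine ⟨U, fun ⟨z, hzD, hz⟩ ↦ hzD (mem_range_diagonal f s x hx hκ z hz), fun V hV ↦ ?_⟩
  have : IsFinite (f ∣_ V) := inferInstance
  have : Mono (f ∣_ V) := by
    refine ⟨fun {T} a b hab ↦ ?_⟩
    rw [← cancel_mono (f ⁻¹ᵁ V).ι]
    have hab' : (a ≫ (f ⁻¹ᵁ V).ι) ≫ f = (b ≫ (f ⁻¹ᵁ V).ι) ≫ f := by
      have := congrArg (· ≫ V.ι) hab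
      simpa [morphismRestrict_ι] using this
    apply eq_of_range_eq_univ f _ _ hab'
    refine Set.eq_univ_of_forall fun t ↦ ?_
    let l := pullback.lift (a ≫ (f ⁻¹ᵁ V).ι) (b ≫ (f ⁻¹ᵁ V).ι) hab'
    have hmem : l t ∈ Set.range (pullback.diagonal f) := by
      by_contra hcon
      have hlU : (pullback.fst f f ≫ f) (l t) ∈ (U : Set S) := by
        apply hV
        rw [← Scheme.Hom.comp_apply, pullback.lift_fst_assoc, Category.assoc,
          ← morphismRestrict_ι, Scheme.Hom.comp_apply, Scheme.Hom.comp_apply]
        exact ((f ∣_ V) (a t)).2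
      exact hlU ⟨l t, hcon, rfl⟩
    obtain ⟨w, hw⟩ := hmem
    obtain ⟨u, hu, -⟩ := Scheme.Pullback.exists_preimage_pullback (f := l)
      (g := pullback.diagonal f) t w hw.symm
    exact ⟨u, hu⟩
  exact (IsClosedImmersion.iff_isFinite_and_mono _).mpr ⟨inferInstance, inferInstance⟩

/-- A finite étale morphism with trivial fibre over `s` is an isomorphism near `s`. -/
lemma exists_isIso [IsFinite f] [Etale f] (s : S) (x : X)
    (hx : f.base ⁻¹' {s} = {x}) (hκ : Function.Surjective (f.residueFieldMap x)) :
    ∃ U : S.Opens, s ∈ U ∧ IsIso (f ∣_ U) := by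
  obtain ⟨U, hsU, hU⟩ := exists_isClosedImmersion f s x hx hκ
  let R : S.Opens := ⟨Set.range f, f.isOpenMap.isOpen_range⟩
  refine ⟨U ⊓ R, ⟨hsU, x, hx.ge rfl⟩, ?_⟩
  have := hU (U ⊓ R) inf_le_left
  have : IsOpenImmersion (f ∣_ (U ⊓ R)) := IsOpenImmersion.of_flat_of_mono _
  have : Surjective (f ∣_ (U ⊓ R)) := ⟨fun ⟨y, hy, x', hx'⟩ ↦
    ⟨⟨x', show f x' ∈ (U ⊓ R : S.Opens) from hx'.symm ▸ ⟨hy, x', hx'⟩⟩,
      Subtype.ext (by simpa using hx')⟩⟩
  exact (isIso_iff_isOpenImmersion_and_surjective _).mpr ⟨inferInstance, inferInstance⟩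

end Groth.Agent.Rigidity
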