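import Groth.Agent.Rigidity.Basic

/-!
# Sections of unramified separated morphisms over a connected base
-/

set_option autoImplicit false
set_option backward.isDefEq.respectTransparency.types false
universe u
open CategoryTheory CategoryTheory.Limits AlgebraicGeometry

namespace Groth.Agent.Rigidity

variable {X Y : Scheme.{u}} (f : X ⟶ Y)

/-- A section of an unramified morphism is an open immersion. -/
lemma isOpenImmersion_section [FormallyUnramified f] [LocallyOfFiniteType f]
    (s : Y ⟶ X) (hs : s ≫ f = 𝟙 Y) : IsOpenImmersion s := by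
  have : MorphismProperty.HasOfPostcompProperty @IsOpenImmersion
      (@FormallyUnramified ⊓ @LocallyOfFiniteType : MorphismProperty Scheme.{u}) :=
    MorphismProperty.hasOfPostcompProperty_iff_le_diagonal.mpr fun _ _ g hg ↦ by
      have : FormallyUnramified g := hg.1
      have : LocallyOfFiniteType g := hg.2
      exact (inferInstance : IsOpenImmersion (pullback.diagonal g))
  exact MorphismProperty.of_postcomp (W := @IsOpenImmersion) s
    (W' := @FormallyUnramified ⊓ @LocallyOfFiniteType) f ⟨‹_›, ‹_›⟩ (by rw [hs]; infer_instance)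

/-- A section of an unramified separated morphism is a closed immersion. -/
lemma isClosedImmersion_section [IsSeparated f] (s : Y ⟶ X) (hs : s ≫ f = 𝟙 Y) :
    IsClosedImmersion s := by
  have : IsClosedImmersion (s ≫ f) := by rw [hs]; infer_instance
  exact IsClosedImmersion.of_comp s f

/-- The range of a section of an unramified separated morphism over a connected base is a
connected component. -/
lemma range_section [FormallyUnramified f] [LocallyOfFiniteType f] [IsSeparated f]
    [ConnectedSpace Y] (s : Y ⟶ X) (hs : s ≫ f = 𝟙 Y) :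
    ∃ x : X, Set.range s = connectedComponent x := by
  have := isOpenImmersion_section f s hs
  have := isClosedImmersion_section f s hs
  obtain ⟨y⟩ := (inferInstance : Nonempty Y)
  refine ⟨s y, ?_⟩
  have hconn : _root_.IsConnected (Set.range s) := isConnected_range s.continuous
  have hclopen : IsClopen (Set.range s) :=
    ⟨s.isClosedEmbedding.isClosed_range, s.isOpenEmbedding.isOpen_range⟩
  exact (hconn.subset_connectedComponent ⟨y, rfl⟩).antisymm
    (hclopen.connectedComponent_subset ⟨y, rfl⟩)

/-- Sections correspond to the open subschemes mapping isomorphically whose carrier is a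
connected component. -/
noncomputable def sectionsEquiv [FormallyUnramified f] [LocallyOfFiniteType f] [IsSeparated f]
    [ConnectedSpace Y] :
    {s : Y ⟶ X // s ≫ f = 𝟙 Y} ≃
      {U : X.Opens // (∃ x : X, (U : Set X) = connectedComponent x) ∧ IsIso (U.ι ≫ f)} where
  toFun s :=
    have := isOpenImmersion_section f s.1 s.2
    ⟨s.1.opensRange, range_section f s.1 s.2, by
      have h : s.1.isoOpensRange.hom ≫ s.1.opensRange.ι ≫ f = 𝟙 Y := by
        rw [Scheme.Hom.isoOpensRange_hom_ι_assoc, s.2]
      exact IsIso.of_isIso_fac_left h⟩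
  invFun U := ⟨(have := U.2.2; inv (U.1.ι ≫ f)) ≫ U.1.ι, by
    have := U.2.2
    rw [Category.assoc, IsIso.inv_hom_id]⟩
  left_inv s := by
    have := isOpenImmersion_section f s.1 s.2
    have h : s.1.isoOpensRange.hom ≫ s.1.opensRange.ι ≫ f = 𝟙 Y := by
      rw [Scheme.Hom.isoOpensRange_hom_ι_assoc, s.2]
    have : IsIso (s.1.opensRange.ι ≫ f) := IsIso.of_isIso_fac_left h
    apply Subtype.ext
    change inv (s.1.opensRange.ι ≫ f) ≫ s.1.opensRange.ι = s.1
    rw [show inv (s.1.opensRange.ι ≫ f) = s.1.isoOpensRange.hom from
      (IsIso.eq_inv_of_inv_hom_id h).symm, Scheme.Hom.isoOpensRange_hom_ι]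
  right_inv U := by
    have := U.2.2
    apply Subtype.ext
    apply TopologicalSpace.Opens.ext
    change Set.range (inv (U.1.ι ≫ f) ≫ U.1.ι) = (U.1 : Set X)
    rw [Scheme.Hom.comp_base, TopCat.coe_comp, Set.range_comp,
      Set.range_eq_univ.mpr (inv (U.1.ι ≫ f)).surjective, Set.image_univ, Scheme.Opens.range_ι]

end Groth.Agent.Rigidity
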